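import Groth.Agent.SliceLib.Step
import Groth.Agent.S1345
import Groth.Agent.S1347
import Groth.Agent.S9389
import Groth.Agent.ASp.QfCodim

/-!
Shrinking a slice, and the slices through a point of a Cohen-Macaulay groupoid.
-/

set_option autoImplicit false
set_option backward.isDefEq.respectTransparency false
set_option linter.style.haveILetI false
universe u

open CategoryTheory CategoryTheory.Limits AlgebraicGeometry IsLocalRing Topology

noncomputable section

namespace Groth.Agent.SliceLib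

variable {S : Scheme.{u}} (G : Grpd.GroupoidScheme S) {U' : Scheme.{u}} (g : U' ⟶ G.U)

/-- Composing an arrow into a slice with an arrow. -/
theorem exists_translation : ∃ cZ : pullback (hs G g) G.t ⟶ Zs G g,
    IsPullback cZ (pullback.snd (hs G g) G.t) (hs G g) G.s ∧
      ∀ z : Zs G g, ∃ q, pullback.fst (hs G g) G.t q = sec G g (pullback.fst g G.t z) ∧ cZ q = z := by
  let m : pullback (hs G g) G.t ⟶ pullback G.s G.t :=
    pullback.lift (pullback.fst (hs G g) G.t ≫ pullback.snd g G.t) (pullback.snd (hs G g) G.t)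
      (by rw [Category.assoc]; exact pullback.condition)
  have hm1 : m ≫ pullback.fst G.s G.t = pullback.fst (hs G g) G.t ≫ pullback.snd g G.t := pullback.lift_fst _ _ _
  have hm2 : m ≫ pullback.snd G.s G.t = pullback.snd (hs G g) G.t := pullback.lift_snd _ _ _
  have hw : G.c ≫ G.t = pullback.fst G.s G.t ≫ G.t := by
    have := G.comp_t (pullback.fst G.s G.t) (pullback.snd G.s G.t) pullback.condition
    have hid : pullback.lift (pullback.fst G.s G.t) (pullback.snd G.s G.t) pullback.condition = 𝟙 (pullback G.s G.t) := by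
      ext <;> simp
    rwa [hid, Category.id_comp] at this
  have h1 : IsPullback (pullback.fst (hs G g) G.t) m (pullback.snd g G.t) (pullback.fst G.s G.t) :=
    IsPullback.of_bot (by rw [hm2]; exact IsPullback.of_hasPullback (hs G g) G.t) hm1.symm
      (IsPullback.of_hasPullback G.s G.t)
  let cZ : pullback (hs G g) G.t ⟶ Zs G g :=
    pullback.lift (pullback.fst (hs G g) G.t ≫ pullback.fst g G.t) (m ≫ G.c) (by
      rw [Category.assoc, pullback.condition, Category.assoc, hw, reassoc_of% hm1])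
  have hc1 : cZ ≫ pullback.fst g G.t = pullback.fst (hs G g) G.t ≫ pullback.fst g G.t := pullback.lift_fst _ _ _
  have hc2 : cZ ≫ pullback.snd g G.t = m ≫ G.c := pullback.lift_snd _ _ _
  have h2 : IsPullback cZ m (pullback.snd g G.t) G.c :=
    IsPullback.of_right (by rw [hc1, hw]; exact h1.paste_horiz (IsPullback.of_hasPullback g G.t)) hc2
      (IsPullback.of_hasPullback g G.t)
  refine ⟨cZ, by rw [← hm2]; exact h2.paste_vert (CMFlatLib.isPullback_comp G), fun z => ?_⟩
  let ω : Zs G g ⟶ pullback (hs G g) G.t :=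
    pullback.lift (pullback.fst g G.t ≫ sec G g) (pullback.snd g G.t)
      (by rw [Category.assoc, sec_hs]; exact pullback.condition)
  refine ⟨ω z, ?_, ?_⟩
  · rw [← Scheme.Hom.comp_apply, pullback.lift_fst, Scheme.Hom.comp_apply]
  · have h : ω ≫ cZ = 𝟙 _ := by
      apply pullback.hom_ext
      · rw [Category.assoc, hc1, pullback.lift_fst_assoc, Category.assoc, sec_fst, Category.comp_id, Category.id_comp]
      · rw [Category.assoc, hc2, Category.id_comp, ← Category.assoc]
        have hωm : ω ≫ m = pullback.lift (pullback.snd g G.t ≫ G.t ≫ G.e) (pullback.snd g G.t)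
            (by simp only [Category.assoc, G.e_s, Category.comp_id]) := by
          apply pullback.hom_ext
          · rw [Category.assoc, hm1, pullback.lift_fst_assoc, Category.assoc, sec_snd, pullback.lift_fst,
              ← Category.assoc, pullback.condition, Category.assoc]
          · rw [Category.assoc, hm2, pullback.lift_snd, pullback.lift_snd]
        rw [hωm]
        exact G.e_comp _
    rw [← Scheme.Hom.comp_apply, h]
    rfl

theorem isCMAt_of_sec [LocallyOfFiniteType g] [LocallyOfFiniteType G.s] [LocallyOfFiniteType G.t]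
    (hsflat : ∀ r, (G.s.stalkMap r).hom.Flat) (z : Zs G g)
    (h : MoreMor.IsCMAt (hs G g) (sec G g (pullback.fst g G.t z))) : MoreMor.IsCMAt (hs G g) z := by
  obtain ⟨cZ, hcZ, hq⟩ := exists_translation G g
  obtain ⟨q, hq1, rfl⟩ := hq z
  have hN : ∀ y, IsLocallyNoetherian ((hs G g).fiber y) := fun y =>
    haveI : LocallyOfFiniteType ((hs G g).fiberToSpecResidueField y) :=
      MorphismProperty.pullback_snd (P := @LocallyOfFiniteType) _ _ inferInstance
    LocallyOfFiniteType.isLocallyNoetherian ((hs G g).fiberToSpecResidueField y)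
  rw [← hq1] at h
  exact S1347.result (hs G g) hN _ cZ G.s hcZ q (hsflat _)
    (S1345.result (hs G g) hN _ (pullback.fst (hs G g) G.t) G.t (IsPullback.of_hasPullback _ _) q h)

theorem quasiFiniteAt_of_sec [LocallyOfFiniteType g] [LocallyOfFiniteType G.s] (z : Zs G g)
    (h : (hs G g).QuasiFiniteAt (sec G g (pullback.fst g G.t z))) : (hs G g).QuasiFiniteAt z := by
  obtain ⟨cZ, hcZ, hq⟩ := exists_translation G g
  obtain ⟨q, hq1, rfl⟩ := hq z
  rw [← hq1] at h
  have e1 := S9389.result (hs G g) G.t (pullback.fst (hs G g) G.t) _ (IsPullback.of_hasPullback _ _)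
  have e2 := S9389.result (hs G g) G.s cZ _ hcZ
  have h1 : q ∈ {x : ↥(pullback (hs G g) G.t) | (pullback.snd (hs G g) G.t).QuasiFiniteAt x} := e1.ge h
  exact e2.le h1

/-- The two projections of the restricted groupoid differ by the inversion. -/
theorem exists_swap : ∃ σ : pullback (hs G g) g ⟶ pullback (hs G g) g, IsIso σ ∧
    σ ≫ pullback.snd (hs G g) g = pullback.fst (hs G g) g ≫ pullback.fst g G.t := by
  let z' : pullback (hs G g) g ⟶ Zs G g :=
    pullback.lift (pullback.snd (hs G g) g) (pullback.fst (hs G g) g ≫ pullback.snd g G.t ≫ G.i) (by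
      rw [← pullback.condition]
      simp only [hs, Category.assoc, G.i_t])
  let σ : pullback (hs G g) g ⟶ pullback (hs G g) g :=
    pullback.lift z' (pullback.fst (hs G g) g ≫ pullback.fst g G.t) (by
      show z' ≫ pullback.snd g G.t ≫ G.s = _
      rw [pullback.lift_snd_assoc, Category.assoc, Category.assoc, G.i_s, Category.assoc, pullback.condition])
  have h1 : σ ≫ pullback.fst (hs G g) g = z' := pullback.lift_fst _ _ _
  have h2 : σ ≫ pullback.snd (hs G g) g = pullback.fst (hs G g) g ≫ pullback.fst g G.t := pullback.lift_snd _ _ _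
  have hσ : σ ≫ σ = 𝟙 _ := by
    apply pullback.hom_ext
    · rw [Category.assoc, h1, Category.id_comp]
      apply pullback.hom_ext
      · rw [Category.assoc, pullback.lift_fst, h2]
      · rw [Category.assoc, pullback.lift_snd, ← Category.assoc σ, h1, pullback.lift_snd_assoc, Category.assoc,
          Category.assoc, CMFlatLib.i_comp_i, Category.comp_id]
    · rw [Category.assoc, h2, ← Category.assoc, h1, pullback.lift_fst, Category.id_comp]
  exact ⟨σ, ⟨σ, hσ, hσ⟩, h2⟩

theorem isCMAt_restr [Flat (hs G g)] [LocallyOfFinitePresentation (hs G g)] (h : ∀ z, MoreMor.IsCMAt (hs G g) z) :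
    (∀ q, MoreMor.IsCMAt (pullback.snd (hs G g) g) q) ∧
      ∀ q, MoreMor.IsCMAt (pullback.fst (hs G g) g ≫ pullback.fst g G.t) q := by
  have h1 : ∀ q, MoreMor.IsCMAt (pullback.snd (hs G g) g) q := fun q =>
    (CMFlatLib.isCMAt_baseChange_iff (hs G g) (IsPullback.of_hasPullback _ _) q).2 (h _)
  obtain ⟨σ, hσ, hσ'⟩ := exists_swap G g
  exact ⟨h1, fun q => by rw [← hσ']; exact (CMFlatLib.isCMAt_comp_left_iff σ _ q).2 (h1 _)⟩

/-- The slice over an open of the slice. -/
theorem exists_open_slice {U'' : Scheme.{u}} (ι : U'' ⟶ U') [IsOpenImmersion ι] :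
    ∃ k : Zs G (ι ≫ g) ⟶ Zs G g, IsOpenImmersion k ∧ k ≫ hs G g = hs G (ι ≫ g) ∧
      k ≫ pullback.fst g G.t = pullback.fst (ι ≫ g) G.t ≫ ι ∧ ∀ v, k (sec G (ι ≫ g) v) = sec G g (ι v) := by
  let k : Zs G (ι ≫ g) ⟶ Zs G g := pullback.lift (pullback.fst (ι ≫ g) G.t ≫ ι) (pullback.snd (ι ≫ g) G.t)
    (by rw [Category.assoc]; exact pullback.condition)
  have hk1 : k ≫ pullback.fst g G.t = pullback.fst (ι ≫ g) G.t ≫ ι := pullback.lift_fst _ _ _
  have hk2 : k ≫ pullback.snd g G.t = pullback.snd (ι ≫ g) G.t := pullback.lift_snd _ _ _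
  have hc : IsPullback k (pullback.fst (ι ≫ g) G.t) (pullback.fst g G.t) ι :=
    IsPullback.of_right (by rw [hk2]; exact (IsPullback.of_hasPullback (ι ≫ g) G.t).flip) hk1
      (IsPullback.of_hasPullback g G.t).flip
  refine ⟨k, MorphismProperty.of_isPullback (P := @IsOpenImmersion) hc.flip inferInstance,
    by rw [hs, hs, ← Category.assoc, hk2], hk1, fun v => ?_⟩
  have h : sec G (ι ≫ g) ≫ k = ι ≫ sec G g := by
    apply pullback.hom_ext
    · rw [Category.assoc, hk1, ← Category.assoc, sec_fst, Category.id_comp, Category.assoc, sec_fst, Category.comp_id]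
    · simp only [Category.assoc, hk2, sec_snd]
  rw [← Scheme.Hom.comp_apply, h, Scheme.Hom.comp_apply]

/-- An affine open of a scheme through a point of an open set. -/
theorem exists_affine_nhd {X : Scheme.{u}} {O : Set X} (hO : IsOpen O) {x : X} (hx : x ∈ O) :
    ∃ (V : Scheme.{u}) (ι : V ⟶ X) (v : V), IsAffine V ∧ IsOpenImmersion ι ∧ LocallyOfFinitePresentation ι ∧ ι v = x ∧
      ∀ w, ι w ∈ O := by
  obtain ⟨_, ⟨W : X.Opens, hW, rfl⟩, hxW, hWO⟩ := X.isBasis_affineOpens.exists_subset_of_mem_open hx hO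
  exact ⟨W, W.ι, ⟨x, hxW⟩, hW, inferInstance, inferInstance, rfl, fun w => hWO w.2⟩

variable (u : G.U)

theorem exists_initial [LocallyOfFiniteType G.s] (hs' : ∀ r : G.R, MoreMor.IsCMAt G.s r) :
    ∃ (U₀ : Scheme.{u}) (g₀ : U₀ ⟶ G.U) (u₀ : U₀), IsAffine U₀ ∧ IsImmersion g₀ ∧ LocallyOfFinitePresentation g₀ ∧
      g₀ u₀ = u ∧ MoreMor.IsCMAt (hs G g₀) (sec G g₀ u₀) ∧
      ringKrullDim (FibRing (hs G g₀) (sec G g₀ u₀)) = FlatMor.fibreDimAt G.s (G.e u) := by
  obtain ⟨V, ι, v, hV, hι, hιfp, rfl, -⟩ := exists_affine_nhd isOpen_univ (Set.mem_univ u)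
  haveI : IsOpenImmersion (pullback.snd ι G.t) :=
    MorphismProperty.pullback_snd (P := @IsOpenImmersion) _ _ inferInstance
  refine ⟨V, ι, v, hV, inferInstance, hιfp, rfl, (CMFlatLib.isCMAt_comp_left_iff _ G.s _).2 (hs' _), ?_⟩
  refine (fibreRing_dim_of_isOpenImmersion (pullback.snd ι G.t) G.s (sec G ι v)).trans ?_
  rw [snd_sec_apply]
  exact (fibreDimAt_eq G.s (G.e (ι v)) (isClosed_asFiber_of_section G.s (𝟙 G.U) G.e G.e_s (ι v)
    (G.U.fromSpecResidueField (ι v)) (Category.comp_id _) (Scheme.fromSpecResidueField_apply _ _))).symm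

/-- A slice of least possible fibre dimension. -/
theorem exists_min_slice [LocallyOfFinitePresentation G.s] (hu : LocallyOfFiniteType (G.U.fromSpecResidueField u))
    (hs' : ∀ r : G.R, MoreMor.IsCMAt G.s r) :
    ∃ (U' : Scheme.{u}) (g : U' ⟶ G.U) (u' : U'), IsAffine U' ∧ IsImmersion g ∧ LocallyOfFinitePresentation g ∧
      g u' = u ∧ MoreMor.IsCMAt (hs G g) (sec G g u') ∧
      ringKrullDim (FibRing (hs G g) (sec G g u')) = topologicalKrullDim ↥(G.stabilizerToU.fiber u) := by
  suffices key : ∀ (n : ℕ) {U' : Scheme.{u}} (g : U' ⟶ G.U) (u' : U'), IsAffine U' → IsImmersion g →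
      LocallyOfFinitePresentation g → g u' = u → MoreMor.IsCMAt (hs G g) (sec G g u') →
      ringKrullDim (FibRing (hs G g) (sec G g u')) = (n : WithBot ℕ∞) →
      ∃ (U' : Scheme.{u}) (g : U' ⟶ G.U) (u' : U'), IsAffine U' ∧ IsImmersion g ∧ LocallyOfFinitePresentation g ∧
        g u' = u ∧ MoreMor.IsCMAt (hs G g) (sec G g u') ∧
        ringKrullDim (FibRing (hs G g) (sec G g u')) = topologicalKrullDim ↥(G.stabilizerToU.fiber u) by
    obtain ⟨U₀, g₀, u₀, hA, hI, hfp, hgu, hcm, -⟩ := exists_initial G u hs'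
    haveI := hI; haveI := hfp
    obtain ⟨n, hn⟩ := CMFlatLib.exists_nat_fibreDimAt (hs G g₀) (sec G g₀ u₀)
    exact key n g₀ u₀ hA hI hfp hgu hcm ((fibreDimAt_sec G g₀ u₀).symm.trans hn)
  intro n
  induction n using Nat.strong_induction_on with
  | _ n ih =>
    intro U' g u' hA hI hfp hgu hcm hn
    subst hgu
    haveI := hA; haveI := hI; haveI := hfp
    have hle := (stab_dim_bounds G g u' hu).1
    rcases hle.eq_or_lt with heq | hlt
    · exact ⟨U', g, u', hA, hI, hfp, rfl, hcm, heq.symm⟩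
    obtain ⟨U'', g'', u'', hA', hI', hfp', hgu', hcm', hdim'⟩ := exists_step G g u' hu hcm hlt
    haveI := hI'; haveI := hfp'
    obtain ⟨m, hm⟩ := CMFlatLib.exists_nat_fibreDimAt (hs G g'') (sec G g'' u'')
    rw [fibreDimAt_sec] at hm
    rw [hm, hn] at hdim'
    have : m + 1 = n := by exact_mod_cast hdim'
    exact ih m (by omega) g'' u'' hA' hI' hfp' hgu' hcm' hm

/-- A least slice, shrunk so that the source map of arrows into it is Cohen-Macaulay. -/
theorem exists_cm_slice [LocallyOfFinitePresentation G.s] [LocallyOfFiniteType G.t]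
    (hu : LocallyOfFiniteType (G.U.fromSpecResidueField u)) (hs' : ∀ r : G.R, MoreMor.IsCMAt G.s r)
    (P : Prop) (hP : P → topologicalKrullDim ↥(G.stabilizerToU.fiber u) = 0) :
    ∃ (U' : Scheme.{u}) (g : U' ⟶ G.U) (u' : U'), IsAffine U' ∧ IsImmersion g ∧ LocallyOfFinitePresentation g ∧
      g u' = u ∧ (∀ z, MoreMor.IsCMAt (hs G g) z) ∧
      ringKrullDim (FibRing (hs G g) (sec G g u')) = topologicalKrullDim ↥(G.stabilizerToU.fiber u) ∧
      (P → ∀ z, (hs G g).QuasiFiniteAt z) := by
  obtain ⟨U', g, u', hA, hI, hfp, rfl, hcm, hdim⟩ := exists_min_slice G u hu hs'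
  let O : Set U' := (sec G g) ⁻¹' {z | MoreMor.IsCMAt (hs G g) z} ∩
    (sec G g) ⁻¹' {z | P → (hs G g).QuasiFiniteAt z}
  haveI : LocallyOfFinitePresentation (hs G g) := inferInstance
  have hO : IsOpen O := by
    refine ((CMFlatLib.isOpen_isCMAt (hs G g)).preimage (sec G g).continuous).inter (IsOpen.preimage (sec G g).continuous ?_)
    by_cases hp : P
    · simpa [hp] using (hs G g).isOpen_quasiFiniteAt
    · simp [hp]
  have hu' : u' ∈ O := ⟨hcm, fun hp => ASp.quasiFiniteAt_of_fibreDimAt_eq_zero _ _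
    ((fibreDimAt_sec G g u').trans (hdim.trans (hP hp)))⟩
  obtain ⟨V, ι, v, hV, hι, hιfp, rfl, hsub⟩ := exists_affine_nhd hO hu'
  obtain ⟨k, hk, hkh, hkfst, hksec⟩ := exists_open_slice G g ι
  haveI := hk
  haveI : LocallyOfFinitePresentation (ι ≫ g) := inferInstance
  have hmem : ∀ z, sec G g (pullback.fst g G.t (k z)) ∈
      ({z | MoreMor.IsCMAt (hs G g) z} ∩ {z | P → (hs G g).QuasiFiniteAt z} : Set (Zs G g)) := fun z => by
    rw [← Scheme.Hom.comp_apply k, hkfst, Scheme.Hom.comp_apply]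
    exact hsub _
  refine ⟨V, ι ≫ g, v, hV, inferInstance, inferInstance, Scheme.Hom.comp_apply _ _ _, fun z => ?_, ?_, fun hp z => ?_⟩
  · rw [← hkh]
    exact (CMFlatLib.isCMAt_comp_left_iff k _ z).2
      (isCMAt_of_sec G g (fun r => ((CMFlatLib.isCMAt_iff G.s r).1 (hs' r)).1) (k z) (hmem z).1)
  · rw [← hkh, fibreRing_dim_of_isOpenImmersion, hksec]
    exact hdim
  · rw [← hkh, Scheme.Hom.quasiFiniteAt_comp_iff_of_isOpenImmersion]
    exact quasiFiniteAt_of_sec G g (k z) ((hmem z).2 hp)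

end Groth.Agent.SliceLib
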