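import Groth.Agent.SliceLib.Comp
import Groth.Agent.EtaleSplit.HenselSplit

/-!
The dimension of the stabilizer bounds the fibre dimension of a slice from below, and
the quotients of the fibre ring by primes over the slice from above.
-/

set_option autoImplicit false
set_option backward.isDefEq.respectTransparency false
set_option linter.style.haveILetI false
universe u

open CategoryTheory CategoryTheory.Limits AlgebraicGeometry IsLocalRing Topology

noncomputable section

namespace Groth.Agent.SliceLib

variable {S : Scheme.{u}} (G : Grpd.GroupoidScheme S) {U' : Scheme.{u}} (g : U' ⟶ G.U) (u' : U')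

theorem exists_τ [IsImmersion g] : ∃ τ : Spec (G.U.residueField (g u')) ⟶ U',
    τ ≫ g = G.U.fromSpecResidueField (g u') ∧ τ (closedPoint _) = u' := by
  have hs : Function.Surjective (g.residueFieldMap u') := by
    intro y
    obtain ⟨z, rfl⟩ := IsLocalRing.residue_surjective y
    obtain ⟨w, rfl⟩ := g.stalkMap_surjective u' z
    exact ⟨IsLocalRing.residue _ w, rfl⟩
  exact EtaleSplit.exists_lift_of_residue_bijective g u' ⟨(g.residueFieldMap u').hom.injective, hs⟩
    (G.U.fromSpecResidueField (g u')) (Scheme.fromSpecResidueField_apply _ _).symm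

theorem hs_sec_apply : hs G g (sec G g u') = g u' := by
  rw [← Scheme.Hom.comp_apply, sec_hs]

theorem fst_sec_apply : pullback.fst g G.t (sec G g u') = u' := by
  rw [← Scheme.Hom.comp_apply, sec_fst]; rfl

theorem snd_sec_apply : pullback.snd g G.t (sec G g u') = G.e (g u') := by
  rw [← Scheme.Hom.comp_apply, sec_snd, Scheme.Hom.comp_apply]

theorem fibreDimAt_sec [IsImmersion g] [LocallyOfFiniteType g] [LocallyOfFiniteType G.s] :
    FlatMor.fibreDimAt (hs G g) (sec G g u') = ringKrullDim (FibRing (hs G g) (sec G g u')) := by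
  obtain ⟨τ, hτ, hτu⟩ := exists_τ G g u'
  exact fibreDimAt_eq _ _ (isClosed_asFiber_of_section (hs G g) g (sec G g) (sec_hs G g) u' τ hτ hτu)

set_option maxHeartbeats 800000 in
theorem exists_point_embedding [IsImmersion g] [LocallyOfFiniteType g] [LocallyOfFiniteType G.s]
    (hu : LocallyOfFiniteType (G.U.fromSpecResidueField (g u'))) :
    ∃ (W : Scheme.{u}) (j : W ⟶ Zs G g) (w : W), IsPreimmersion j ∧ j w = sec G g u' ∧
      Set.range j = {z | hs G g z = hs G g (sec G g u') ∧ pullback.fst g G.t z = pullback.fst g G.t (sec G g u')} ∧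
      (ringKrullDim (W.presheaf.stalk w) : WithBot ℕ∞) = topologicalKrullDim ↥(G.stabilizerToU.fiber (g u')) := by
  haveI : LocallyOfFiniteType (pointι G (g u')) := hu
  obtain ⟨τ, hτ, hτu⟩ := exists_τ G g u'
  let A := atPoint G (g u')
  let ρ := atPointρ G (g u')
  let j : A.R ⟶ Zs G g := pullback.lift (A.t ≫ τ) ρ (by
    rw [Category.assoc, hτ]; exact (QuasiSecLib.ρ_t G (pointι G (g u'))).symm)
  have hj1 : j ≫ pullback.fst g G.t = A.t ≫ τ := pullback.lift_fst _ _ _
  have hj2 : j ≫ pullback.snd g G.t = ρ := pullback.lift_snd _ _ _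
  haveI : IsPreimmersion (pullback.snd g G.t) :=
    MorphismProperty.pullback_snd (P := @IsPreimmersion) _ _ inferInstance
  haveI : IsPreimmersion (j ≫ pullback.snd g G.t) := by rw [hj2]; exact isPreimmersion_ρ G (g u')
  haveI hjp : IsPreimmersion j := IsPreimmersion.of_comp j (pullback.snd g G.t)
  have hrange : Set.range j = {z | hs G g z = hs G g (sec G g u') ∧
      pullback.fst g G.t z = pullback.fst g G.t (sec G g u')} := by
    rw [hs_sec_apply, fst_sec_apply]
    ext z
    constructor
    · rintro ⟨v, rfl⟩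
      refine ⟨?_, ?_⟩
      · have h := (range_atPointρ G (g u')).le ⟨v, rfl⟩
        rw [hs, Scheme.Hom.comp_apply, ← Scheme.Hom.comp_apply j, hj2]
        exact h.1
      · rw [← Scheme.Hom.comp_apply, hj1, Scheme.Hom.comp_apply, @Subsingleton.elim (Spec (G.U.residueField (g u'))) inferInstance (A.t v) (closedPoint _)]
        exact hτu
    · rintro ⟨h1, h2⟩
      have hz : pullback.snd g G.t z ∈ Set.range ρ := by
        rw [range_atPointρ]
        refine ⟨(Scheme.Hom.comp_apply _ _ z).symm.trans h1, ?_⟩
        rw [← Scheme.Hom.comp_apply, ← pullback.condition, Scheme.Hom.comp_apply, h2]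
      obtain ⟨v, hv⟩ := hz
      refine ⟨v, (pullback.snd g G.t).isEmbedding.injective ?_⟩
      rw [← Scheme.Hom.comp_apply, hj2]
      exact hv
  obtain ⟨w, hw⟩ : sec G g u' ∈ Set.range j := by rw [hrange]; exact ⟨rfl, rfl⟩
  refine ⟨A.R, j, w, hjp, hw, hrange, ?_⟩
  have hcl : IsClosed ({w} : Set A.R) := by
    have h := isClosed_asFiber_of_section (hs G g) g (sec G g) (sec_hs G g) u' τ hτ hτu
    obtain ⟨C, hC, hC'⟩ := ((hs G g).fiberι _).isEmbedding.isInducing.isClosed_iff.1 h
    have : j ⁻¹' C = {w} := by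
      ext v
      constructor
      · intro hv
        have hv' : j v ∈ Set.range ((hs G g).fiberι (hs G g (sec G g u'))) := by
          rw [Scheme.Hom.range_fiberι]
          exact (hrange.le ⟨v, rfl⟩).1
        obtain ⟨z, hz⟩ := hv'
        have hz' : z = (hs G g).asFiber (sec G g u') := hC'.le (show (hs G g).fiberι _ z ∈ C from hz.symm ▸ hv)
        rw [hz', Scheme.Hom.fiberι_asFiber, ← hw] at hz
        exact j.isEmbedding.injective hz.symm
      · rintro rfl
        have := hC'.ge (Set.mem_singleton ((hs G g).asFiber (sec G g u')))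
        rw [Set.mem_preimage, Scheme.Hom.fiberι_asFiber, ← hw] at this
        exact this
    rw [← this]
    exact hC.preimage j.continuous
  obtain ⟨h₁, h₂⟩ := lft_atPoint G (g u')
  exact (S1887.result S A (G.U.residueField (g u')) (Iso.refl _) w hcl).trans (dim_atPoint G (g u'))

set_option maxHeartbeats 800000 in
theorem stab_dim_bounds [IsImmersion g] [LocallyOfFiniteType g] [LocallyOfFiniteType G.s]
    (hu : LocallyOfFiniteType (G.U.fromSpecResidueField (g u'))) :
    topologicalKrullDim ↥(G.stabilizerToU.fiber (g u')) ≤ ringKrullDim (FibRing (hs G g) (sec G g u')) ∧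
    ∀ P : Ideal ((Zs G g).presheaf.stalk (sec G g u')), P.IsPrime →
      (maximalIdeal (G.U.presheaf.stalk (hs G g (sec G g u')))).map ((hs G g).stalkMap (sec G g u')).hom ≤ P →
      (maximalIdeal (U'.presheaf.stalk (pullback.fst g G.t (sec G g u')))).map
        ((pullback.fst g G.t).stalkMap (sec G g u')).hom ≤ P →
      (ringKrullDim (↑((Zs G g).presheaf.stalk (sec G g u')) ⧸ P) : WithBot ℕ∞) ≤
        topologicalKrullDim ↥(G.stabilizerToU.fiber (g u')) := by
  obtain ⟨W, j, w, hj, hw, hrange, hdim⟩ := exists_point_embedding G g u' hu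
  generalize sec G g u' = p at hw hrange ⊢
  subst hw
  have hd : ringKrullDim (↑((Zs G g).presheaf.stalk (j w)) ⧸ RingHom.ker (j.stalkMap w).hom) =
      topologicalKrullDim ↥(G.stabilizerToU.fiber (g u')) :=
    (ringKrullDim_eq_of_ringEquiv (RingHom.quotientKerEquivOfSurjective (j.stalkMap_surjective w))).trans hdim
  constructor
  · rw [← hd, ringKrullDim_quotient]
    refine le_trans ?_ (ringKrullDim_quotient _).ge
    refine Order.krullDim_le_of_strictMono (fun P => ⟨P.1, ?_⟩) fun a b hab => hab
    obtain ⟨z, hz⟩ := (ker_le_iff_mem_range j w P.1).1 P.2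
    exact (fromSpecStalk_mem_iff (hs G g) (j w) P.1).1 (hz ▸ (hrange.le ⟨z, rfl⟩).1)
  · intro P hP h1 h2
    rw [← hd]
    have hle : RingHom.ker (j.stalkMap w).hom ≤ P := (ker_le_iff_mem_range j w ⟨P, hP⟩).2 (hrange.ge
      ⟨(fromSpecStalk_mem_iff (hs G g) (j w) ⟨P, hP⟩).2 h1, (fromSpecStalk_mem_iff (pullback.fst g G.t) (j w) ⟨P, hP⟩).2 h2⟩)
    exact ringKrullDim_le_of_surjective (Ideal.Quotient.factor hle) (Ideal.Quotient.factor_surjective hle)

end Groth.Agent.SliceLib
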