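import Groth.Agent.SliceLib.Local

/-!
Cohen-Macaulay points and fibre dimension of a map restricted to a subscheme cut by one element.
-/

set_option autoImplicit false
set_option backward.isDefEq.respectTransparency false
set_option linter.style.haveILetI false
universe u

open CategoryTheory CategoryTheory.Limits AlgebraicGeometry IsLocalRing Topology

noncomputable section

namespace Groth.Agent.SliceLib

variable {Q X Y : Scheme.{u}} (k : Q ⟶ X) (f : X ⟶ Y) (q : Q)

theorem exists_fibRing_comp_equiv (hk : Function.Surjective (k.stalkMap q)) {K : Ideal (X.presheaf.stalk (k q))}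
    (hker : RingHom.ker (k.stalkMap q).hom = K) :
    Nonempty (FibRing (k ≫ f) q ≃+* FibRing f (k q) ⧸ K.map
      (Ideal.Quotient.mk ((maximalIdeal (Y.presheaf.stalk (f (k q)))).map (f.stalkMap (k q)).hom))) := by
  let I : Ideal (X.presheaf.stalk (k q)) := (maximalIdeal (Y.presheaf.stalk (f (k q)))).map (f.stalkMap (k q)).hom
  have hI : (maximalIdeal (Y.presheaf.stalk ((k ≫ f) q))).map ((k ≫ f).stalkMap q).hom = I.map (k.stalkMap q).hom := by
    rw [Ideal.map_map, Scheme.Hom.stalkMap_comp]
    rfl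
  let π : X.presheaf.stalk (k q) →+* FibRing (k ≫ f) q := (Ideal.Quotient.mk _).comp (k.stalkMap q).hom
  have hπ : RingHom.ker π = I ⊔ K := by
    rw [← RingHom.comap_ker, Ideal.mk_ker, hI, Ideal.comap_map_of_surjective _ hk, RingHom.ker_eq_comap_bot] at *
    rw [hker]
  exact ⟨(RingHom.quotientKerEquivOfSurjective (f := π) (Ideal.Quotient.mk_surjective.comp hk)).symm.trans
    ((Ideal.quotEquivOfEq hπ).trans (DoubleQuot.quotQuotEquivQuotSup I K).symm)⟩

/-- Restricting to an open subscheme does not change the fibre ring. -/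
theorem fibreRing_dim_of_isOpenImmersion [IsOpenImmersion k] :
    ringKrullDim (FibRing (k ≫ f) q) = ringKrullDim (FibRing f (k q)) := by
  have hbij := ConcreteCategory.bijective_of_isIso (k.stalkMap q)
  obtain ⟨e⟩ := exists_fibRing_comp_equiv k f q hbij.2
    (K := ⊥) ((RingHom.injective_iff_ker_eq_bot _).1 hbij.1)
  exact ringKrullDim_eq_of_ringEquiv (e.trans ((Ideal.quotEquivOfEq Ideal.map_bot).trans (RingEquiv.quotientBot _)))

/-- Cutting by one fibrewise regular element. -/
theorem cm_cut [LocallyOfFinitePresentation f] (hk : Function.Surjective (k.stalkMap q))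
    (a : X.presheaf.stalk (k q)) (hker : RingHom.ker (k.stalkMap q).hom = Ideal.span {a})
    (ha : a ∈ maximalIdeal (X.presheaf.stalk (k q))) (hcm : MoreMor.IsCMAt f (k q))
    (hreg : IsSMulRegular (FibRing f (k q)) (Ideal.Quotient.mk
      ((maximalIdeal (Y.presheaf.stalk (f (k q)))).map (f.stalkMap (k q)).hom) a)) :
    MoreMor.IsCMAt (k ≫ f) q ∧ ringKrullDim (FibRing (k ≫ f) q) + 1 = ringKrullDim (FibRing f (k q)) := by
  obtain ⟨hflat, hcmf⟩ := (CMFlatLib.isCMAt_iff f (k q)).1 hcm
  obtain ⟨e⟩ := exists_fibRing_comp_equiv k f q hk hker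
  let B := FibRing f (k q)
  let mk := Ideal.Quotient.mk ((maximalIdeal (Y.presheaf.stalk (f (k q)))).map (f.stalkMap (k q)).hom)
  haveI hB : LocCoh.IsCohenMacaulayLocalRing B :=
    (CMFlatLib.cm_congr (Ideal.quotEquivOfEq (by rw [CMFlatLib.span_nonunits]))).1 hcmf
  have hB' : mk a ∈ maximalIdeal B := by
    rw [← IsLocalRing.map_maximalIdeal_of_surjective mk Ideal.Quotient.mk_surjective]
    exact Ideal.mem_map_of_mem mk ha
  let e' : FibRing (k ≫ f) q ≃+* B ⧸ Ideal.span {mk a} :=
    e.trans (Ideal.quotEquivOfEq (by rw [Ideal.map_span, Set.image_singleton]))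
  refine ⟨(CMFlatLib.isCMAt_iff _ q).2 ⟨?_, ?_⟩, ?_⟩
  · exact (flat_comp_stalkMap_iff k f q hk hker).2 (flat_quot_stalk f (k q) hflat a ha hreg)
  · have h := (CMFlatLib.cm_congr e').2 ((CMFlatLib.cm_quot_iff B hB' hreg).1 hB)
    exact (CMFlatLib.cm_congr (Ideal.quotEquivOfEq (by rw [CMFlatLib.span_nonunits]))).2 h
  · rw [ringKrullDim_eq_of_ringEquiv e']
    exact ringKrullDim_quotient_span_singleton_succ_eq_ringKrullDim hreg hB'

end Groth.Agent.SliceLib
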