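import Groth.Agent.SliceLib.Point
import Groth.Agent.RegSeqSlice.Scheme
import Groth.Agent.RegIdealLib.Immersion
import Groth.Agent.CycLib.ZeroPull
import Groth.Agent.CMSeqLib.Basic

/-!
Cutting a flat Cohen-Macaulay map by one element at a point.
-/

set_option autoImplicit false
set_option backward.isDefEq.respectTransparency false
set_option linter.style.haveILetI false
universe u

open CategoryTheory CategoryTheory.Limits AlgebraicGeometry IsLocalRing Topology

noncomputable section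

namespace Groth.Agent.SliceLib

/-- The point of a scheme given by a prime of a local ring maps as the prime does. -/
theorem fromSpecStalk_mem_iff {X Y : Scheme.{u}} (f : X ⟶ Y) (x : X) (P : Spec (X.presheaf.stalk x)) :
    f (X.fromSpecStalk x P) = f x ↔ (maximalIdeal (Y.presheaf.stalk (f x))).map (f.stalkMap x).hom ≤ P.asIdeal := by
  rw [← Scheme.Hom.comp_apply, ← Scheme.SpecMap_stalkMap_fromSpecStalk, Scheme.Hom.comp_apply]
  constructor
  · intro h
    have h2 := (Y.fromSpecStalk (f x)).isEmbedding.injective (h.trans (Scheme.fromSpecStalk_closedPoint).symm)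
    rw [Ideal.map_le_iff_le_comap]
    exact (congrArg PrimeSpectrum.asIdeal h2).ge
  · intro h
    have h2 : Spec.map (f.stalkMap x) P = closedPoint (Y.presheaf.stalk (f x)) :=
      PrimeSpectrum.ext (((maximalIdeal.isMaximal _).eq_of_le (Ideal.IsPrime.comap (f.stalkMap x).hom).ne_top
        (Ideal.map_le_iff_le_comap.1 h)).symm)
    rw [h2]
    exact Scheme.fromSpecStalk_closedPoint

/-- The primes of a point of a preimmersed scheme. -/
theorem ker_le_iff_mem_range {W Z : Scheme.{u}} (j : W ⟶ Z) [IsPreimmersion j] (w : W)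
    (P : Spec (Z.presheaf.stalk (j w))) :
    RingHom.ker (j.stalkMap w).hom ≤ P.asIdeal ↔ Z.fromSpecStalk (j w) P ∈ Set.range j := by
  constructor
  · intro h
    obtain ⟨Q, hQ⟩ : P ∈ Set.range (PrimeSpectrum.comap (j.stalkMap w).hom) := by
      rw [range_comap_of_surjective _ _ (j.stalkMap_surjective w)]
      exact h
    refine ⟨W.fromSpecStalk w Q, ?_⟩
    rw [← Scheme.Hom.comp_apply, ← Scheme.SpecMap_stalkMap_fromSpecStalk, Scheme.Hom.comp_apply]
    exact congrArg _ hQ
  · rintro ⟨w₀, hw₀⟩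
    have hsp : j w₀ ⤳ j w := by
      rw [hw₀]
      have : Z.fromSpecStalk (j w) P ∈ Set.range (Z.fromSpecStalk (j w)) := ⟨P, rfl⟩
      rwa [Scheme.range_fromSpecStalk] at this
    have hsp' : w₀ ∈ Set.range (W.fromSpecStalk w) := by
      rw [Scheme.range_fromSpecStalk]
      exact j.isEmbedding.isInducing.specializes_iff.1 hsp
    obtain ⟨Q, hQ⟩ := hsp'
    rw [← hQ, ← Scheme.Hom.comp_apply, ← Scheme.SpecMap_stalkMap_fromSpecStalk, Scheme.Hom.comp_apply] at hw₀
    rw [← (Z.fromSpecStalk (j w)).isEmbedding.injective hw₀]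
    exact fun a ha => show (j.stalkMap w).hom a ∈ Q.asIdeal by rw [RingHom.mem_ker.1 ha]; exact zero_mem _

/-- Flatness of a quotient of the local ring depends only on the kernel. -/
theorem flat_comp_stalkMap_iff {Q X Y : Scheme.{u}} (k : Q ⟶ X) (f : X ⟶ Y) (q : Q)
    (hk : Function.Surjective (k.stalkMap q)) {I : Ideal (X.presheaf.stalk (k q))}
    (hker : RingHom.ker (k.stalkMap q).hom = I) :
    ((k ≫ f).stalkMap q).hom.Flat ↔ ((Ideal.Quotient.mk I).comp (f.stalkMap (k q)).hom).Flat := by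
  subst hker
  let e := RingHom.quotientKerEquivOfSurjective (f := (k.stalkMap q).hom) hk
  have h : ((k ≫ f).stalkMap q).hom =
      e.toRingHom.comp ((Ideal.Quotient.mk (RingHom.ker (k.stalkMap q).hom)).comp (f.stalkMap (k q)).hom) := by
    rw [Scheme.Hom.stalkMap_comp]
    rfl
  rw [h]
  refine ⟨fun h => ?_, fun h => RingHom.Flat.respectsIso.1 _ e h⟩
  have h2 := RingHom.Flat.respectsIso.1 _ e.symm h
  rwa [← RingHom.comp_assoc, show e.symm.toRingHom.comp e.toRingHom = RingHom.id _ from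
    RingHom.ext e.symm_apply_apply, RingHom.id_comp] at h2

/-- A fibrewise regular element cuts out a flat subscheme at the point. -/
theorem flat_quot_stalk {X Y : Scheme.{u}} (f : X ⟶ Y) [LocallyOfFinitePresentation f] (x : X)
    (hflat : (f.stalkMap x).hom.Flat) (a : X.presheaf.stalk x) (ha : a ∈ maximalIdeal (X.presheaf.stalk x))
    (hreg : IsSMulRegular (FibRing f x) (Ideal.Quotient.mk
      ((maximalIdeal (Y.presheaf.stalk (f x))).map (f.stalkMap x).hom) a)) :
    ((Ideal.Quotient.mk (Ideal.span {a})).comp (f.stalkMap x).hom).Flat := by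
  obtain ⟨W, U, hW, hU, hx, e, b, hb, hfl⟩ := RegSeqSlice.exists_flat_coordinates f x hflat (fun _ : Fin 1 => a)
    (fun _ => ha) (by
      simp only [List.ofFn_succ, List.ofFn_zero]
      rw [RingTheory.Sequence.isWeaklyRegular_singleton_iff]
      exact hreg)
  letI : Algebra Γ(Y, W) Γ(X, U) := (f.appLE W U e).hom.toAlgebra
  letI : Algebra (MvPolynomial (Fin 1) Γ(Y, W)) Γ(X, U) := (MvPolynomial.aeval (R := Γ(Y, W)) b).toRingHom.toAlgebra
  haveI : IsScalarTower Γ(Y, W) (MvPolynomial (Fin 1) Γ(Y, W)) Γ(X, U) := IsScalarTower.of_algHom (MvPolynomial.aeval b)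
  haveI : Module.Flat (MvPolynomial (Fin 1) Γ(Y, W)) Γ(X, U) := hfl
  let I : Ideal Γ(X, U) := Ideal.span {b 0}
  haveI : Module.Flat Γ(Y, W) (Γ(X, U) ⧸ I) := RegSeqSlice.flat_quot (n := 1) I (by
    simp [I, List.ofFn_succ, Ideal.ofList, RingHom.algebraMap_toAlgebra])
  letI : Algebra Γ(X, U) (X.presheaf.stalk x) := TopCat.Presheaf.algebra_section_stalk X.presheaf ⟨x, hx⟩
  haveI := hU.isLocalization_stalk ⟨x, hx⟩
  haveI : Module.Flat Γ(X, U) (X.presheaf.stalk x) :=
    IsLocalization.flat _ (hU.primeIdealOf ⟨x, hx⟩).asIdeal.primeCompl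
  have hmap : I.map (algebraMap Γ(X, U) (X.presheaf.stalk x)) = Ideal.span {a} := by
    rw [Ideal.map_span, Set.image_singleton]
    exact congrArg (fun z => Ideal.span {z}) (hb 0)
  have h1 : Module.Flat (Γ(X, U) ⧸ I) (X.presheaf.stalk x ⧸ I.map (algebraMap Γ(X, U) (X.presheaf.stalk x))) :=
    GorLib.flat_quot_map I
  letI : Algebra Γ(Y, W) (Y.presheaf.stalk (f x)) := TopCat.Presheaf.algebra_section_stalk Y.presheaf ⟨f x, e hx⟩
  haveI := hW.isLocalization_stalk ⟨f x, e hx⟩
  let L := X.presheaf.stalk x ⧸ I.map (algebraMap Γ(X, U) (X.presheaf.stalk x))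
  let ψ : Y.presheaf.stalk (f x) →+* L := (Ideal.Quotient.mk _).comp (f.stalkMap x).hom
  letI : Algebra (Y.presheaf.stalk (f x)) L := ψ.toAlgebra
  letI : Algebra Γ(Y, W) L := (ψ.comp (algebraMap Γ(Y, W) (Y.presheaf.stalk (f x)))).toAlgebra
  haveI : IsScalarTower Γ(Y, W) (Y.presheaf.stalk (f x)) L := .of_algebraMap_eq fun _ => rfl
  haveI : IsScalarTower Γ(Y, W) (Γ(X, U) ⧸ I) L := .of_algebraMap_eq fun r => by
    show Ideal.Quotient.mk _ (f.stalkMap x (Y.presheaf.germ W (f x) (e hx) r)) =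
      Ideal.Quotient.mk _ (X.presheaf.germ U x hx (f.appLE W U e r))
    rw [Scheme.Hom.germ_stalkMap_apply, Scheme.Hom.appLE, CommRingCat.comp_apply, X.presheaf.germ_res_apply]
  have h2 : Module.Flat Γ(Y, W) L := Module.Flat.trans Γ(Y, W) (Γ(X, U) ⧸ I) L
  have h3 : Module.Flat (Y.presheaf.stalk (f x)) L :=
    (Module.flat_iff_of_isLocalization (Y.presheaf.stalk (f x)) (hW.primeIdealOf ⟨f x, e hx⟩).asIdeal.primeCompl L).2 h2
  have h4 : ψ.Flat := h3
  rw [← hmap]
  exact h4

end Groth.Agent.SliceLib
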