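import Groth.Agent.QSplitLib.Restr
import Groth.Agent.S1883
import Groth.Agent.S1887
import Groth.Agent.CMFlatLib.Groupoid
import Groth.Agent.DimFormulaLib.Field

/-!
Slices of a groupoid scheme through a point, and the dimension of the arrows at that point.
-/

set_option autoImplicit false
set_option backward.isDefEq.respectTransparency false
set_option linter.style.haveILetI false
universe u

open CategoryTheory CategoryTheory.Limits AlgebraicGeometry IsLocalRing Topology

noncomputable section

namespace Groth.Agent.SliceLib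

variable {S : Scheme.{u}} (G : Grpd.GroupoidScheme S)

/-- Arrows ending in a slice. -/
abbrev Zs {U' : Scheme.{u}} (g : U' ⟶ G.U) : Scheme.{u} := pullback g G.t

/-- The source of an arrow ending in a slice. -/
abbrev hs {U' : Scheme.{u}} (g : U' ⟶ G.U) : Zs G g ⟶ G.U := pullback.snd g G.t ≫ G.s

/-- The identity arrows of a slice. -/
def sec {U' : Scheme.{u}} (g : U' ⟶ G.U) : U' ⟶ Zs G g :=
  pullback.lift (𝟙 U') (g ≫ G.e) (by rw [Category.assoc, G.e_t, Category.comp_id, Category.id_comp])

theorem sec_fst {U' : Scheme.{u}} (g : U' ⟶ G.U) : sec G g ≫ pullback.fst g G.t = 𝟙 U' := pullback.lift_fst _ _ _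

theorem sec_snd {U' : Scheme.{u}} (g : U' ⟶ G.U) : sec G g ≫ pullback.snd g G.t = g ≫ G.e := pullback.lift_snd _ _ _

theorem sec_hs {U' : Scheme.{u}} (g : U' ⟶ G.U) : sec G g ≫ hs G g = g := by
  rw [hs, ← Category.assoc, sec_snd, Category.assoc, G.e_s, Category.comp_id]

theorem lft_hs {U' : Scheme.{u}} (g : U' ⟶ G.U) [LocallyOfFiniteType g] [LocallyOfFiniteType G.s] :
    LocallyOfFiniteType (hs G g) := inferInstance

/-- The ring of the fibre of `f` at `x`. -/
abbrev FibRing {X Y : Scheme.{u}} (f : X ⟶ Y) (x : X) : Type u :=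
  ↥(X.presheaf.stalk x) ⧸ (maximalIdeal (Y.presheaf.stalk (f x))).map (f.stalkMap x).hom

theorem exists_fibRing_equiv {X Y : Scheme.{u}} (f : X ⟶ Y) (x : X) :
    Nonempty (FibRing f x ≃+* (f.fiber (f x)).presheaf.stalk (f.asFiber x)) := by
  have key : ∀ x' : X, x' = x → Nonempty (FibRing f x ≃+*
      ↥(X.presheaf.stalk x') ⧸ (maximalIdeal (Y.presheaf.stalk (f x'))).map (f.stalkMap x').hom) := by
    rintro _ rfl; exact ⟨RingEquiv.refl _⟩
  obtain ⟨e₀⟩ := key _ (f.fiberι_asFiber x)
  exact ⟨e₀.trans ((Ideal.quotEquivOfEq (FlatLocus.ker_fiberι_stalkMap f (f x) (f.asFiber x)).symm).trans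
    (RingHom.quotientKerEquivOfSurjective (FlatLocus.fiberι_stalkMap_surjective f (f x) (f.asFiber x))))⟩

theorem isLocalRing_fibRing {X Y : Scheme.{u}} (f : X ⟶ Y) (x : X) : IsLocalRing (FibRing f x) := by
  obtain ⟨e⟩ := exists_fibRing_equiv f x
  exact e.symm.isLocalRing

/-- At a closed point of the fibre the fibre dimension is the dimension of the fibre ring. -/
theorem fibreDimAt_eq {X Y : Scheme.{u}} (f : X ⟶ Y) [LocallyOfFiniteType f] (x : X)
    (hx : IsClosed ({f.asFiber x} : Set ↑(f.fiber (f x)))) :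
    FlatMor.fibreDimAt f x = ringKrullDim (FibRing f x) := by
  haveI : LocallyOfFiniteType (f.fiberToSpecResidueField (f x)) :=
    MorphismProperty.pullback_snd (P := @LocallyOfFiniteType) _ _ ‹_›
  obtain ⟨e⟩ := exists_fibRing_equiv f x
  rw [ringKrullDim_eq_of_ringEquiv e]
  exact DimFormulaLib.localDim_eq_of_isClosed (f.fiberToSpecResidueField (f x)) (f.asFiber x) hx

/-- A point through which a section passes is closed in its fibre. -/
theorem isClosed_asFiber_of_section {X Y Y' : Scheme.{u}} (f : X ⟶ Y) (g : Y' ⟶ Y) (σ : Y' ⟶ X) (hσ : σ ≫ f = g)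
    (y : Y') (τ : Spec (Y.residueField (g y)) ⟶ Y') (hτ : τ ≫ g = Y.fromSpecResidueField (g y))
    (hτy : τ (closedPoint _) = y) [LocallyOfFiniteType f] :
    IsClosed ({f.asFiber (σ y)} : Set ↑(f.fiber (f (σ y)))) := by
  have hy : f (σ y) = g y := by rw [← Scheme.Hom.comp_apply, hσ]
  have key : ∀ w, ∀ hw : w = g y, ∀ z : f.fiber w, f.fiberι w z = σ y → IsClosed ({z} : Set (f.fiber w)) := by
    rintro w rfl z hz
    let ρ : Spec (Y.residueField (g y)) ⟶ f.fiber (g y) :=
      pullback.lift (τ ≫ σ) (𝟙 _) (by rw [Category.assoc, hσ, hτ, Category.id_comp])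
    haveI : IsSeparated (f.fiberToSpecResidueField (g y)) ∨ True := Or.inr trivial
    have hρ1 : ρ ≫ f.fiberι (g y) = τ ≫ σ := pullback.lift_fst _ _ _
    have hρ2 : ρ ≫ f.fiberToSpecResidueField (g y) = 𝟙 _ := pullback.lift_snd _ _ _
    have hρz : ρ (closedPoint _) = z := (f.fiberι (g y)).isEmbedding.injective (by
      rw [hz, ← Scheme.Hom.comp_apply, hρ1, Scheme.Hom.comp_apply, hτy])
    haveI : LocallyOfFiniteType (f.fiberToSpecResidueField (g y)) :=
      MorphismProperty.pullback_snd (P := @LocallyOfFiniteType) _ _ ‹_›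
    haveI : JacobsonSpace (f.fiber (g y)) := LocallyOfFiniteType.jacobsonSpace (f.fiberToSpecResidueField (g y))
    haveI : LocallyOfFiniteType (ρ ≫ f.fiberToSpecResidueField (g y)) := by rw [hρ2]; infer_instance
    haveI : LocallyOfFiniteType ρ := locallyOfFiniteType_of_comp ρ (f.fiberToSpecResidueField (g y))
    rw [← hρz, ← mem_closedPoints_iff]
    exact ρ.closePoints_subset_preimage_closedPoints (IsLocalRing.isClosed_singleton_closedPoint _)
  exact key _ hy _ (f.fiberι_asFiber _)

section Field

variable (u : G.U)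

/-- The inclusion of the point. -/
abbrev pointι : Spec (G.U.residueField u) ⟶ G.U := G.U.fromSpecResidueField u

/-- The groupoid of arrows over a point. -/
abbrev atPoint : Grpd.GroupoidScheme S := QSplitLib.restr G (pointι G u)

/-- The arrow at a point underlying an arrow of the restricted groupoid. -/
abbrev atPointρ : (atPoint G u).R ⟶ G.R := QuasiSecLib.ρ G (pointι G u)

theorem isPreimmersion_ρ : IsPreimmersion (atPointρ G u) := by
  unfold atPointρ QuasiSecLib.ρ
  haveI : IsPreimmersion (pullback.fst G.t (pointι G u)) :=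
    MorphismProperty.pullback_fst (P := @IsPreimmersion) _ _ inferInstance
  haveI : IsPreimmersion (pullback.fst (QuasiSecLib.σ G (pointι G u)) (pointι G u)) :=
    MorphismProperty.pullback_fst (P := @IsPreimmersion) _ _ inferInstance
  infer_instance

theorem lft_atPoint [LocallyOfFiniteType G.s] [LocallyOfFiniteType (pointι G u)] :
    LocallyOfFiniteType (atPoint G u).s ∧ LocallyOfFiniteType (atPoint G u).t := by
  haveI : LocallyOfFiniteType (pullback.fst G.t (pointι G u)) :=
    MorphismProperty.pullback_fst (P := @LocallyOfFiniteType) _ _ inferInstance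
  haveI : LocallyOfFiniteType (QuasiSecLib.σ G (pointι G u)) := by unfold QuasiSecLib.σ; infer_instance
  have h : LocallyOfFiniteType (atPoint G u).s :=
    MorphismProperty.pullback_snd (P := @LocallyOfFiniteType) _ _ ‹_›
  refine ⟨h, ?_⟩
  haveI := h
  haveI : IsIso (atPoint G u).i := CMFlatLib.isIso_i _
  rw [← (atPoint G u).i_s]
  infer_instance

theorem dim_atPoint [LocallyOfFiniteType G.s] [LocallyOfFiniteType (pointι G u)] :
    topologicalKrullDim (atPoint G u).R = topologicalKrullDim ↥(G.stabilizerToU.fiber u) := by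
  obtain ⟨h₁, h₂⟩ := lft_atPoint G u
  rw [S1883.result S (atPoint G u) (G.U.residueField u) (Iso.refl _)]
  have hj := QSplitLib.isPullback_restr G (pointι G u)
  have hd : (atPoint G u).diag ≫ pullback.map (atPoint G u).pU (atPoint G u).pU G.pU G.pU (pointι G u) (pointι G u) (𝟙 S)
      ((Category.comp_id _).trans rfl) ((Category.comp_id _).trans rfl) = pointι G u ≫ G.diag := by
    apply pullback.hom_ext <;> simp [Grpd.GroupoidScheme.diag, pullback.map, QSplitLib.restr] <;> exact Category.id_comp _
  have h1 : IsPullback (pullback.fst (atPoint G u).j (atPoint G u).diag ≫ atPointρ G u)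
      (pullback.snd (atPoint G u).j (atPoint G u).diag) G.j (pointι G u ≫ G.diag) := by
    rw [← hd]; exact (IsPullback.of_hasPullback _ _).paste_horiz hj
  have h2 : IsPullback (pullback.fst G.stabilizerToU (pointι G u) ≫ pullback.fst G.j G.diag)
      (pullback.snd G.stabilizerToU (pointι G u)) G.j (pointι G u ≫ G.diag) :=
    (IsPullback.of_hasPullback G.stabilizerToU (pointι G u)).flip.paste_vert
      (IsPullback.of_hasPullback G.j G.diag).flip |>.flip
  exact (h1.isoIsPullback _ _ h2).hom.homeomorph.isHomeomorph.topologicalKrullDim_eq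

theorem range_atPointρ : Set.range (atPointρ G u) = {r | G.s r = u ∧ G.t r = u} := by
  have hr : Set.range (pointι G u) = {u} := Scheme.range_fromSpecResidueField _
  ext r
  constructor
  · rintro ⟨z, rfl⟩
    refine ⟨?_, ?_⟩
    · rw [← Scheme.Hom.comp_apply, QuasiSecLib.ρ_s, Scheme.Hom.comp_apply]
      exact Scheme.fromSpecResidueField_apply _ _
    · rw [← Scheme.Hom.comp_apply, QuasiSecLib.ρ_t, Scheme.Hom.comp_apply]
      exact Scheme.fromSpecResidueField_apply _ _
  · rintro ⟨hs, ht⟩
    obtain ⟨v, hv, -⟩ := Scheme.Pullback.exists_preimage_pullback (f := G.t) (g := pointι G u) r (closedPoint _)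
      (ht.trans (Scheme.fromSpecResidueField_apply _ _).symm)
    obtain ⟨z, hz, -⟩ := Scheme.Pullback.exists_preimage_pullback (f := QuasiSecLib.σ G (pointι G u))
      (g := pointι G u) v (closedPoint _) (by
        rw [QuasiSecLib.σ, Scheme.Hom.comp_apply, hv, hs, Scheme.fromSpecResidueField_apply])
    exact ⟨z, (Scheme.Hom.comp_apply _ _ z).trans ((congrArg _ hz).trans hv)⟩

end Field

end Groth.Agent.SliceLib
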