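import Groth.Agent.SliceLib.Bound

/-!
One step of cutting a slice.
-/

set_option autoImplicit false
set_option backward.isDefEq.respectTransparency false
set_option linter.style.haveILetI false
universe u

open CategoryTheory CategoryTheory.Limits AlgebraicGeometry IsLocalRing Topology

noncomputable section

namespace Groth.Agent.SliceLib

/-- A global section cuts out a closed subscheme with principal kernels on stalks. -/
theorem exists_zero_scheme {U' : Scheme.{u}} [IsAffine U'] (f : Γ(U', ⊤)) (u' : U')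
    (hf : U'.presheaf.germ ⊤ u' trivial f ∈ maximalIdeal (U'.presheaf.stalk u')) :
    ∃ (U'' : Scheme.{u}) (i : U'' ⟶ U') (u'' : U''), IsAffine U'' ∧ IsClosedImmersion i ∧ LocallyOfFinitePresentation i ∧
      i u'' = u' ∧ ∀ z : U'', RingHom.ker (i.stalkMap z).hom = Ideal.span {U'.presheaf.germ ⊤ (i z) trivial f} := by
  let mk : Γ(U', ⊤) ⟶ CommRingCat.of (Γ(U', ⊤) ⧸ Ideal.span {f}) := CommRingCat.ofHom (Ideal.Quotient.mk _)
  let i : Spec (CommRingCat.of (Γ(U', ⊤) ⧸ Ideal.span {f})) ⟶ U' := Spec.map mk ≫ U'.isoSpec.inv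
  haveI : IsClosedImmersion (Spec.map mk) := IsClosedImmersion.spec_of_surjective mk Ideal.Quotient.mk_surjective
  haveI hci : IsClosedImmersion i := inferInstanceAs (IsClosedImmersion (Spec.map mk ≫ U'.isoSpec.inv))
  haveI : LocallyOfFinitePresentation (Spec.map mk) :=
    HasRingHomProperty.Spec_iff.2 (RingHom.FinitePresentation.of_surjective mk.hom Ideal.Quotient.mk_surjective
      (by rw [show RingHom.ker mk.hom = Ideal.span {f} from Ideal.mk_ker]; exact Submodule.fg_span_singleton f))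
  haveI : LocallyOfFinitePresentation i := inferInstanceAs (LocallyOfFinitePresentation (Spec.map mk ≫ U'.isoSpec.inv))
  have hker : RingHom.ker (i.app ⊤).hom = Ideal.span {f} := by
    have hinv : U'.isoSpec.inv.appTop = (Scheme.ΓSpecIso Γ(U', ⊤)).inv := by
      have h : U'.isoSpec.inv.appTop ≫ U'.isoSpec.hom.appTop = 𝟙 _ := by
        rw [← Scheme.Hom.comp_appTop, Iso.hom_inv_id]; rfl
      rw [show U'.isoSpec.hom.appTop = (Scheme.ΓSpecIso Γ(U', ⊤)).hom from Scheme.toSpecΓ_appTop U'] at h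
      exact (Iso.comp_hom_eq_id _).1 h
    have h : i.appTop = mk ≫ (Scheme.ΓSpecIso _).inv := by
      rw [Scheme.Hom.comp_appTop, hinv, Scheme.ΓSpecIso_inv_naturality]
    show RingHom.ker i.appTop.hom = _
    rw [h, CommRingCat.hom_comp, RingHom.ker_comp_of_injective _
      (ConcreteCategory.bijective_of_isIso (Scheme.ΓSpecIso _).inv).1]
    exact Ideal.mk_ker
  obtain ⟨u'', hu''⟩ : ∃ u'', i u'' = u' := by
    let hU := isAffineOpen_top U'
    have hz : U'.isoSpec.hom u' ∈ Set.range (Spec.map mk) := by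
      show _ ∈ Set.range (PrimeSpectrum.comap mk.hom)
      refine (range_comap_of_surjective _ mk.hom Ideal.Quotient.mk_surjective).ge ?_
      rw [show RingHom.ker mk.hom = _ from Ideal.mk_ker, PrimeSpectrum.zeroLocus_span]
      refine (PrimeSpectrum.mem_zeroLocus _ _).2 (Set.singleton_subset_iff.2 ?_)
      have heq : hU.fromSpec (U'.isoSpec.hom u') = u' := by
        rw [IsAffineOpen.fromSpec_top, ← Scheme.Hom.comp_apply, Iso.hom_inv_id]; rfl
      by_contra hn
      have h1 : U'.isoSpec.hom u' ∈ hU.fromSpec ⁻¹ᵁ U'.basicOpen f := by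
        rw [hU.fromSpec_preimage_basicOpen]; exact hn
      rw [Scheme.Hom.mem_preimage, heq, U'.mem_basicOpen f u' (by trivial)] at h1
      exact hf h1
    obtain ⟨v, hv⟩ := hz
    refine ⟨v, ?_⟩
    rw [Scheme.Hom.comp_apply, hv, ← Scheme.Hom.comp_apply, Iso.hom_inv_id]
    rfl
  refine ⟨_, i, u'', inferInstance, hci, ‹_›, hu'', fun z => ?_⟩
  rw [RegIdealLib.ker_stalkMap i (isAffineOpen_top U') (IsZariskiLocalAtTarget.restrict hci ⊤) z trivial, hker,
    Ideal.map_span, Set.image_singleton]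

/-- The kernel on stalks of the base change of a principal closed subscheme. -/
theorem ker_stalkMap_baseChange {Q X Y Y' : Scheme.{u}} {k : Q ⟶ X} {l : Q ⟶ Y'} {f : X ⟶ Y} {i : Y' ⟶ Y}
    [IsClosedImmersion i] (hc : IsPullback k l f i) (f0 : Γ(Y, ⊤))
    (hi : ∀ z, RingHom.ker (i.stalkMap z).hom = Ideal.span {Y.presheaf.germ ⊤ (i z) trivial f0}) (q : Q) :
    RingHom.ker (k.stalkMap q).hom = Ideal.span {f.stalkMap (k q) (Y.presheaf.germ ⊤ (f (k q)) trivial f0)} := by
  obtain ⟨e, rfl⟩ : ∃ e : Q ≅ pullback f i, e.hom ≫ pullback.fst f i = k :=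
    ⟨hc.isoPullback, hc.isoPullback_hom_fst⟩
  have hsp : f (pullback.fst f i (e.hom q)) ⤳ i (pullback.snd f i (e.hom q)) := by
    refine specializes_of_eq ?_
    exact congrArg (fun m => m (e.hom q)) (congrArg (fun m : pullback f i ⟶ Y => ⇑m) pullback.condition)
  have h := CycLib.ker_stalkMap_fst f i (e.hom q) (hi _) hsp
  rw [show Y.presheaf.stalkSpecializes hsp (Y.presheaf.germ ⊤ _ trivial f0) = Y.presheaf.germ ⊤ _ trivial f0 from
    ConcreteCategory.congr_hom (TopCat.Presheaf.germ_stalkSpecializes Y.presheaf _ hsp) f0] at h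
  refine Eq.trans ?_ h
  rw [Scheme.Hom.stalkMap_comp, CommRingCat.hom_comp]
  exact RingHom.ker_comp_of_injective _ (ConcreteCategory.bijective_of_isIso (e.hom.stalkMap q)).1

variable {S : Scheme.{u}} (G : Grpd.GroupoidScheme S) {U' : Scheme.{u}} (g : U' ⟶ G.U) (u' : U')

/-- Some function vanishing at the point is regular on the fibre ring. -/
theorem exists_regular [IsAffine U'] [IsImmersion g] [LocallyOfFiniteType g] [LocallyOfFiniteType G.s]
    (hu : LocallyOfFiniteType (G.U.fromSpecResidueField (g u')))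
    (hcm : MoreMor.IsCMAt (hs G g) (sec G g u'))
    (hd : topologicalKrullDim ↥(G.stabilizerToU.fiber (g u')) < ringKrullDim (FibRing (hs G g) (sec G g u'))) :
    ∃ f : Γ(U', ⊤), U'.presheaf.germ ⊤ (pullback.fst g G.t (sec G g u')) trivial f ∈
        maximalIdeal (U'.presheaf.stalk (pullback.fst g G.t (sec G g u'))) ∧
      IsSMulRegular (FibRing (hs G g) (sec G g u')) (Ideal.Quotient.mk
        ((maximalIdeal (G.U.presheaf.stalk (hs G g (sec G g u')))).map ((hs G g).stalkMap (sec G g u')).hom)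
        ((pullback.fst g G.t).stalkMap (sec G g u') (U'.presheaf.germ ⊤ _ trivial f))) := by
  have hb := (stab_dim_bounds G g u' hu).2
  obtain ⟨-, hcmf⟩ := (CMFlatLib.isCMAt_iff _ _).1 hcm
  generalize sec G g u' = p at hb hcmf hd ⊢
  let B := FibRing (hs G g) p
  haveI hB : LocCoh.IsCohenMacaulayLocalRing B :=
    (CMFlatLib.cm_congr (Ideal.quotEquivOfEq (by rw [CMFlatLib.span_nonunits]))).1 hcmf
  let I := (maximalIdeal (G.U.presheaf.stalk (hs G g p))).map ((hs G g).stalkMap p).hom
  let ψ : Γ(U', ⊤) →+* B := (Ideal.Quotient.mk I).comp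
    (((pullback.fst g G.t).stalkMap p).hom.comp (U'.presheaf.germ ⊤ (pullback.fst g G.t p) trivial).hom)
  let hU := isAffineOpen_top U'
  let x := pullback.fst g G.t p
  have hx : x ∈ (⊤ : U'.Opens) := trivial
  let 𝔭 : Ideal Γ(U', ⊤) := (hU.primeIdealOf ⟨x, hx⟩).asIdeal
  letI : Algebra Γ(U', ⊤) (U'.presheaf.stalk x) := TopCat.Presheaf.algebra_section_stalk U'.presheaf ⟨x, hx⟩
  haveI : IsLocalization.AtPrime (U'.presheaf.stalk x) 𝔭 := hU.isLocalization_stalk ⟨x, hx⟩
  by_contra hcon
  push Not at hcon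
  have hsub : (𝔭 : Set Γ(U', ⊤)) ⊆ ⋃ P ∈ associatedPrimes B B, (Ideal.comap ψ P : Set Γ(U', ⊤)) := by
    intro f hf
    have h1 : ¬ IsSMulRegular B (ψ f) :=
      hcon f ((IsLocalization.AtPrime.to_map_mem_maximal_iff (U'.presheaf.stalk x) 𝔭 f).2 hf)
    have h2 : ψ f ∈ ⋃ P ∈ associatedPrimes B B, (P : Set B) := by
      rw [biUnion_associatedPrimes_eq_compl_regular B B]; exact h1
    simp only [Set.mem_iUnion] at h2 ⊢
    exact h2
  obtain ⟨P, hP, hle⟩ := (Ideal.subset_union_prime_finite (associatedPrimes.finite B B) ⊥ ⊥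
    (fun P hP _ _ => haveI : P.IsPrime := hP.isPrime; Ideal.IsPrime.comap ψ)).1 hsub
  haveI : P.IsPrime := hP.isPrime
  have hdim : ringKrullDim (B ⧸ P) = ringKrullDim B :=
    (CMSeqLib.ringKrullDim_quotient_eq (A := B) (M := B) hB.supportDim_eq_depth hP).trans (Module.supportDim_self_eq_ringKrullDim B)
  let Q : Ideal ((Zs G g).presheaf.stalk p) := P.comap (Ideal.Quotient.mk I)
  have hQ : ringKrullDim (↑((Zs G g).presheaf.stalk p) ⧸ Q) ≤ topologicalKrullDim ↥(G.stabilizerToU.fiber (g u')) := by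
    refine hb Q (Ideal.IsPrime.comap _) (fun z hz => ?_) ?_
    · show Ideal.Quotient.mk I z ∈ P
      rw [Ideal.Quotient.eq_zero_iff_mem.2 hz]
      exact zero_mem _
    · rw [← IsLocalization.AtPrime.map_eq_maximalIdeal 𝔭 (U'.presheaf.stalk x), Ideal.map_map, Ideal.map_le_iff_le_comap]
      exact fun z hz => hle hz
  have hQB : ringKrullDim (B ⧸ P) ≤ ringKrullDim (↑((Zs G g).presheaf.stalk p) ⧸ Q) :=
    ringKrullDim_le_of_surjective (Ideal.quotientMap P (Ideal.Quotient.mk I) le_rfl)
      (Ideal.quotientMap_surjective Ideal.Quotient.mk_surjective)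
  exact not_lt.2 (hdim.ge.trans (hQB.trans hQ)) hd

/-- One step: cutting lowers the fibre dimension by one. -/
theorem exists_step [IsAffine U'] [IsImmersion g] [LocallyOfFinitePresentation g] [LocallyOfFinitePresentation G.s]
    (hu : LocallyOfFiniteType (G.U.fromSpecResidueField (g u')))
    (hcm : MoreMor.IsCMAt (hs G g) (sec G g u'))
    (hd : topologicalKrullDim ↥(G.stabilizerToU.fiber (g u')) < ringKrullDim (FibRing (hs G g) (sec G g u'))) :
    ∃ (U'' : Scheme.{u}) (g'' : U'' ⟶ G.U) (u'' : U''), IsAffine U'' ∧ IsImmersion g'' ∧ LocallyOfFinitePresentation g'' ∧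
      g'' u'' = g u' ∧ MoreMor.IsCMAt (hs G g'') (sec G g'' u'') ∧
      ringKrullDim (FibRing (hs G g'') (sec G g'' u'')) + 1 = ringKrullDim (FibRing (hs G g) (sec G g u')) := by
  obtain ⟨f, hf, hreg⟩ := exists_regular G g u' hu hcm hd
  have hf' : U'.presheaf.germ ⊤ u' trivial f ∈ maximalIdeal (U'.presheaf.stalk u') := by
    have key : ∀ x y : U', x = y → U'.presheaf.germ ⊤ x trivial f ∈ maximalIdeal (U'.presheaf.stalk x) →
        U'.presheaf.germ ⊤ y trivial f ∈ maximalIdeal (U'.presheaf.stalk y) := by rintro _ _ rfl h; exact h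
    exact key _ _ (fst_sec_apply G g u') hf
  obtain ⟨U'', i, u'', hA, hci, hlfp, rfl, hker⟩ := exists_zero_scheme f u' hf'
  let g'' := i ≫ g
  let k : Zs G g'' ⟶ Zs G g := pullback.lift (pullback.fst g'' G.t ≫ i) (pullback.snd g'' G.t)
    (by rw [Category.assoc]; exact pullback.condition)
  have hk1 : k ≫ pullback.fst g G.t = pullback.fst g'' G.t ≫ i := pullback.lift_fst _ _ _
  have hk2 : k ≫ pullback.snd g G.t = pullback.snd g'' G.t := pullback.lift_snd _ _ _
  have hc : IsPullback k (pullback.fst g'' G.t) (pullback.fst g G.t) i :=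
    IsPullback.of_right (by rw [hk2]; exact (IsPullback.of_hasPullback g'' G.t).flip) hk1
      (IsPullback.of_hasPullback g G.t).flip
  have hcomp : k ≫ hs G g = hs G g'' := by rw [hs, hs, ← Category.assoc, hk2]
  haveI : IsClosedImmersion k := MorphismProperty.of_isPullback (P := @IsClosedImmersion) hc.flip hci
  have hkp : k (sec G g'' u'') = sec G g (i u'') := by
    have h : sec G g'' ≫ k = i ≫ sec G g := by
      apply pullback.hom_ext
      · rw [Category.assoc, hk1, ← Category.assoc, sec_fst, Category.id_comp, Category.assoc, sec_fst, Category.comp_id]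
      · simp only [Category.assoc, hk2, sec_snd, g'']
    rw [← Scheme.Hom.comp_apply, h, Scheme.Hom.comp_apply]
  have hker' := ker_stalkMap_baseChange hc f hker (sec G g'' u'')
  revert hf hreg hcm hd
  generalize sec G g (i u'') = x at hkp
  subst hkp
  intro hcm hd hf hreg
  haveI : LocallyOfFinitePresentation g'' := inferInstanceAs (LocallyOfFinitePresentation (i ≫ g))
  haveI : IsImmersion g'' := inferInstanceAs (IsImmersion (i ≫ g))
  haveI : LocallyOfFinitePresentation (hs G g) := inferInstance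
  have hmem : (pullback.fst g G.t).stalkMap (k (sec G g'' u'')) (U'.presheaf.germ ⊤ _ trivial f) ∈
      maximalIdeal ((Zs G g).presheaf.stalk (k (sec G g'' u''))) :=
    ((local_hom_TFAE ((pullback.fst g G.t).stalkMap (k (sec G g'' u''))).hom).out 0 2 rfl rfl).mp inferInstance
      (Ideal.mem_map_of_mem _ hf)
  obtain ⟨h1, h2⟩ := cm_cut k (hs G g) (sec G g'' u'') (k.stalkMap_surjective _) _ hker' hmem hcm hreg
  refine ⟨U'', g'', u'', hA, ‹_›, ‹_›, Scheme.Hom.comp_apply _ _ _, ?_⟩
  rw [← hcomp]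
  exact ⟨h1, h2⟩

end Groth.Agent.SliceLib
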